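import Cfsg.Agent.SpPrimeGraph.Main
import Cfsg.Agent.PrimeGraph.BothChar

/-!
The prime graph of PSp(6, 3): the primes are 2, 3, 5, 7, 13 and the edges 2-3, 2-5, 2-7, 3-5.
-/

set_option autoImplicit false

namespace Cfsg.Agent.SzGraph.PSpSix

open Cfsg.Agent SpPrimeGraph Cfsg.Agent.Classical

universe u

variable {F : Type u} [Field F] [Fintype F] (hF : Fintype.card F = 3)

/-- The negative of a symplectic matrix. -/
def negS {n : ℕ} (x : Matrix.symplecticGroup (Fin n) F) : Matrix.symplecticGroup (Fin n) F :=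
  ⟨-x.1, SymplecticGroup.neg_mem x.2⟩

include hF

theorem charThree : CharP F 3 :=
  haveI : Fact (Nat.Prime 3) := ⟨Nat.prime_three⟩
  charP_of_card_eq_prime_pow (p := 3) (f := 1) (by rw [hF, pow_one])

theorem two_ne : (2 : F) ≠ 0 := by
  haveI := charThree hF
  intro h
  have := (CharP.cast_eq_zero_iff F 3 2).1 (by exact_mod_cast h)
  omega

theorem card_psp : Nat.card (Cfsg.PSp 3 F) = 2 ^ 9 * 3 ^ 9 * 5 * 7 * 13 := by
  have h := Subgroup.card_eq_card_quotient_mul_card_subgroup
    (Subgroup.center (Matrix.symplecticGroup (Fin 3) F))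
  rw [Classical.card_symplecticGroup hF 3, Classical.card_center_symplectic (by norm_num), hF] at h
  simp only [Finset.prod_range_succ, Finset.prod_range_zero] at h
  norm_num at h
  change _ = Nat.card (Cfsg.PSp 3 F) * 2 at h
  omega

theorem dvd_card_iff {p : ℕ} (hp : p.Prime) :
    p ∣ Nat.card (Cfsg.PSp 3 F) ↔ p = 2 ∨ p = 3 ∨ p = 5 ∨ p = 7 ∨ p = 13 := by
  rw [card_psp hF, hp.dvd_mul, hp.dvd_mul, hp.dvd_mul, hp.dvd_mul,
    Nat.prime_dvd_prime_iff_eq hp Nat.prime_five,
    Nat.prime_dvd_prime_iff_eq hp (by norm_num : Nat.Prime 7),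
    Nat.prime_dvd_prime_iff_eq hp (by norm_num : Nat.Prime 13)]
  constructor
  · rintro ((((h | h) | h) | h) | h)
    · exact Or.inl ((Nat.prime_dvd_prime_iff_eq hp Nat.prime_two).1 (hp.dvd_of_dvd_pow h))
    · exact Or.inr (Or.inl ((Nat.prime_dvd_prime_iff_eq hp Nat.prime_three).1 (hp.dvd_of_dvd_pow h)))
    all_goals simp [h]
  · rintro (rfl | rfl | rfl | rfl | rfl) <;> simp

omit [Field F] in
theorem ord_five : orderOf ((Fintype.card F : ℕ) : ZMod 5) = 4 := by
  rw [hF, orderOf_eq_iff (by norm_num)]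
  refine ⟨by decide, fun m hm hm0 => ?_⟩
  interval_cases m <;> decide

omit [Field F] in
theorem ord_seven : orderOf ((Fintype.card F : ℕ) : ZMod 7) = 6 := by
  rw [hF, orderOf_eq_iff (by norm_num)]
  refine ⟨by decide, fun m hm hm0 => ?_⟩
  interval_cases m <;> decide

omit [Field F] in
theorem ord_thirteen : orderOf ((Fintype.card F : ℕ) : ZMod 13) = 3 := by
  rw [hF, orderOf_eq_iff (by norm_num)]
  refine ⟨by decide, fun m hm hm0 => ?_⟩
  interval_cases m <;> decide

theorem edge_fifteen : ∃ g : Cfsg.PSp 3 F, orderOf g = 3 * 5 := by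
  haveI : Fact (Nat.Prime 3) := ⟨Nat.prime_three⟩
  haveI : Fact (Nat.Prime 5) := ⟨Nat.prime_five⟩
  haveI := charThree hF
  have h := psp_char (F := F) 3 (n := 3) (by norm_num) (r := 5) (η := 2) (by norm_num) (by norm_num)
    (Or.inr ⟨by rw [ord_five hF]; decide, by rw [ord_five hF]⟩)
  by_contra hc
  have h2 := h.1 fun ⟨g, hg⟩ => hc ⟨g, hg.trans (by norm_num)⟩
  omega

theorem no_char {r : ℕ} (hr : r = 7 ∨ r = 13) (g : Cfsg.PSp 3 F) : orderOf g ≠ r * 3 := by
  haveI : Fact (Nat.Prime 3) := ⟨Nat.prime_three⟩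
  haveI := charThree hF
  haveI : Fact r.Prime := ⟨by rcases hr with rfl | rfl <;> norm_num⟩
  have hη : IsEta (orderOf ((Fintype.card F : ℕ) : ZMod r)) 3 := by
    rcases hr with rfl | rfl
    · exact Or.inr ⟨by rw [ord_seven hF]; decide, by rw [ord_seven hF]⟩
    · exact Or.inl ⟨by rw [ord_thirteen hF]; decide, by rw [ord_thirteen hF]⟩
  exact fun hg => (psp_char (F := F) 3 (n := 3) (by norm_num)
    (by rcases hr with rfl | rfl <;> norm_num) (by rcases hr with rfl | rfl <;> norm_num) hη).2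
    (by norm_num) ⟨g, hg⟩

theorem no_pair {r s : ℕ} (h : (r = 5 ∧ s = 7) ∨ (r = 5 ∧ s = 13) ∨ (r = 7 ∧ s = 13))
    (g : Cfsg.PSp 3 F) : orderOf g ≠ r * s := by
  haveI : Fact (Nat.Prime 3) := ⟨Nat.prime_three⟩
  haveI := charThree hF
  haveI : Fact (Nat.Prime 5) := ⟨Nat.prime_five⟩
  haveI : Fact (Nat.Prime 7) := ⟨by norm_num⟩
  haveI : Fact (Nat.Prime 13) := ⟨by norm_num⟩
  intro hg
  rcases h with ⟨rfl, rfl⟩ | ⟨rfl, rfl⟩ | ⟨rfl, rfl⟩
  · refine (psp_pair (F := F) 3 (n := 3) (ηk := 2) (ηl := 3) (by norm_num) (r := 5) (s := 7)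
      (by norm_num) (by norm_num) (by norm_num) (by norm_num) (by norm_num)
      (Or.inr ⟨by rw [ord_five hF]; decide, by rw [ord_five hF]⟩)
      (Or.inr ⟨by rw [ord_seven hF]; decide, by rw [ord_seven hF]⟩) (by norm_num) le_rfl).2
      ⟨by norm_num, ?_⟩ ⟨g, hg⟩
    rintro ⟨t, -, ht⟩
    rw [ord_five hF, ord_seven hF] at ht
    omega
  · refine (psp_pair (F := F) 3 (n := 3) (ηk := 2) (ηl := 3) (by norm_num) (r := 5) (s := 13)
      (by norm_num) (by norm_num) (by norm_num) (by norm_num) (by norm_num)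
      (Or.inr ⟨by rw [ord_five hF]; decide, by rw [ord_five hF]⟩)
      (Or.inl ⟨by rw [ord_thirteen hF]; decide, by rw [ord_thirteen hF]⟩) (by norm_num) le_rfl).2
      ⟨by norm_num, ?_⟩ ⟨g, hg⟩
    rintro ⟨t, -, ht⟩
    rw [ord_five hF, ord_thirteen hF] at ht
    omega
  · refine (psp_pair (F := F) 3 (n := 3) (ηk := 3) (ηl := 3) (by norm_num) (r := 7) (s := 13)
      (by norm_num) (by norm_num) (by norm_num) (by norm_num) (by norm_num)
      (Or.inr ⟨by rw [ord_seven hF]; decide, by rw [ord_seven hF]⟩)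
      (Or.inl ⟨by rw [ord_thirteen hF]; decide, by rw [ord_thirteen hF]⟩) (by norm_num) le_rfl).2
      ⟨by norm_num, ?_⟩ ⟨g, hg⟩
    rintro ⟨t, -, ht⟩
    rw [ord_seven hF, ord_thirteen hF] at ht
    omega

theorem center_sq_iso (z : Alt.isoGroup (Classical.sympB 3 F))
    (hz : z ∈ Subgroup.center (Alt.isoGroup (Classical.sympB 3 F))) : z * z = 1 := by
  obtain ⟨x, rfl⟩ := (Classical.spEquiv 3 F).surjective z
  have hx : x ∈ Subgroup.center (Matrix.symplecticGroup (Fin 3) F) :=
    Subgroup.mem_center_iff.2 fun w => (Classical.spEquiv 3 F).injective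
      (by rw [map_mul, map_mul]; exact Subgroup.mem_center_iff.1 hz _)
  rw [← map_mul, ← pow_two, sq_center (by norm_num) hx, map_one]

theorem edge_six : ∃ g : Cfsg.PSp 3 F, orderOf g = 2 * 3 := by
  haveI : Fact (Nat.Prime 3) := ⟨Nat.prime_three⟩
  haveI := charThree hF
  haveI : Finite (Alt.isoGroup (Classical.sympB 3 F)) :=
    Finite.of_equiv _ (Classical.spEquiv 3 F).toEquiv
  exact (PrimeGraph.range_orderOf_psp (n := 3) (m := 2 * 3)).2 ((PrimeGraph.quot_two (center_sq_iso hF)
    Nat.prime_three (by norm_num)).2 (PrimeGraph.sp_two_char (two_ne hF) 3 (n := 3) (by norm_num)))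

theorem center_sq (z : Matrix.symplecticGroup (Fin 3) F)
    (hz : z ∈ Subgroup.center (Matrix.symplecticGroup (Fin 3) F)) : z * z = 1 :=
  (pow_two z).symm.trans (sq_center (by norm_num) hz)

theorem neg_one_ne_one {n : ℕ} (hn : 0 < n) : negS (1 : Matrix.symplecticGroup (Fin n) F) ≠ 1 := by
  intro h
  have h' := congrArg (fun M : Matrix.symplecticGroup (Fin n) F => M.1 (Sum.inl ⟨0, hn⟩) (Sum.inl ⟨0, hn⟩)) h
  change -((1 : Matrix (Fin n ⊕ Fin n) (Fin n ⊕ Fin n) F) (Sum.inl ⟨0, hn⟩) (Sum.inl ⟨0, hn⟩)) =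
    (1 : Matrix (Fin n ⊕ Fin n) (Fin n ⊕ Fin n) F) (Sum.inl ⟨0, hn⟩) (Sum.inl ⟨0, hn⟩) at h'
  rw [Matrix.one_apply_eq] at h'
  exact two_ne hF (by linear_combination -h')

theorem neg_one_mul_neg_one {n : ℕ} :
    (negS (1 : Matrix.symplecticGroup (Fin n) F)) * negS 1 = 1 := by
  refine Subtype.ext ?_
  show (-1 : Matrix (Fin n ⊕ Fin n) (Fin n ⊕ Fin n) F) * -1 = 1
  simp

/-- An element of order `2 * 5` from an involution on the complementary plane. -/
theorem edge_ten : ∃ g : Cfsg.PSp 3 F, orderOf g = 5 * 2 := by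
  haveI : Fact (Nat.Prime 5) := ⟨Nat.prime_five⟩
  obtain ⟨g, hg⟩ := exists_orderOf_eta (F := F) (r := 5) (η := 2) (by rw [hF]; norm_num)
    (Or.inr ⟨by rw [ord_five hF]; decide, by rw [ord_five hF]⟩)
  obtain ⟨ψ, hψ⟩ := exists_sp_prod (F := F) (a := 2) (b := 1) (n := 3) rfl
  have hS : orderOf (ψ (g, 1)) = 5 := by
    rw [orderOf_injective ψ hψ, Prod.orderOf, hg, orderOf_one]; norm_num
  have h1 : ψ (1, negS 1) * ψ (1, negS 1) = 1 := by
    rw [← map_mul, Prod.mk_mul_mk, one_mul, neg_one_mul_neg_one hF, ← Prod.one_eq_mk, map_one]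
  have h2 : ψ (negS 1, 1) * ψ (negS 1, 1) = 1 := by
    rw [← map_mul, Prod.mk_mul_mk, one_mul, neg_one_mul_neg_one hF, ← Prod.one_eq_mk, map_one]
  have hcen : negS (1 : Matrix.symplecticGroup (Fin 2) F) * g = g * negS 1 := by
    refine Subtype.ext ?_
    show (-1 : Matrix (Fin 2 ⊕ Fin 2) (Fin 2 ⊕ Fin 2) F) * g.1 = g.1 * -1
    simp
  refine (PrimeGraph.quot_two (center_sq hF) Nat.prime_five (by norm_num)).2 ?_
  by_cases hc : ψ (1, negS 1) ∈ Subgroup.center (Matrix.symplecticGroup (Fin 3) F)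
  · refine ⟨ψ (g, 1), ψ (negS 1, 1), Commute.map (show Commute (g, (1 : Matrix.symplecticGroup (Fin 1) F)) (negS 1, 1) from Prod.ext hcen.symm rfl) ψ,
      hS, fun hc' => ?_, by rw [h2]; exact one_mem _⟩
    -- a central element of order two is minus the identity
    have hu : ∀ z ∈ Subgroup.center (Matrix.symplecticGroup (Fin 3) F), z ≠ 1 → z = negS 1 := by
      intro z hz hz1
      obtain ⟨c, hc, hzc⟩ := (Spectrum.center_iff (by norm_num) z).1 hz
      rcases mul_self_eq_one_iff.1 hc with rfl | rfl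
      · exact absurd (Subtype.ext (by rw [hzc, one_smul]; rfl)) hz1
      · exact Subtype.ext (by rw [hzc, neg_smul, one_smul]; rfl)
    have e := hψ ((hu _ hc' fun h => neg_one_ne_one hF (n := 2) (by norm_num)
      (congrArg Prod.fst (hψ (h.trans (map_one ψ).symm)))).trans
      (hu _ hc fun h => neg_one_ne_one hF (n := 1) (by norm_num)
      (congrArg Prod.snd (hψ (h.trans (map_one ψ).symm)))).symm)
    exact neg_one_ne_one hF (n := 2) (by norm_num) (congrArg Prod.fst e)
  · exact ⟨ψ (g, 1), ψ (1, negS 1), Commute.map (show Commute (g, (1 : Matrix.symplecticGroup (Fin 1) F)) (1, negS 1) from Prod.ext (by simp) (by simp)) ψ,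
      hS, hc, by rw [h1]; exact one_mem _⟩

/-- An element of order `2 * 7` inside the cyclic torus of order 28. -/
theorem edge_fourteen : ∃ g : Cfsg.PSp 3 F, orderOf g = 7 * 2 := by
  obtain ⟨x, hx⟩ := LargeSylow.exists_sp_orderOf (F := F) (k := 28) (h := 3) rfl (by norm_num)
    (by rw [hF]; norm_num)
  have hS : orderOf (x ^ 4) = 7 := by rw [orderOf_pow' _ (by norm_num), hx]; rfl
  have h14 : orderOf (x ^ 14) = 2 := by rw [orderOf_pow' _ (by norm_num), hx]; rfl
  have h7 : orderOf (x ^ 7) = 4 := by rw [orderOf_pow' _ (by norm_num), hx]; rfl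
  refine (PrimeGraph.quot_two (center_sq hF) (by norm_num) (by norm_num)).2 ?_
  by_cases hc : x ^ 14 ∈ Subgroup.center (Matrix.symplecticGroup (Fin 3) F)
  · refine ⟨x ^ 4, x ^ 7, (Commute.refl x).pow_pow 4 7, hS, fun h => ?_, by rw [← pow_add]; exact hc⟩
    have := orderOf_dvd_of_pow_eq_one ((pow_two _).trans (center_sq hF _ h))
    rw [h7] at this
    norm_num at this
  · refine ⟨x ^ 4, x ^ 14, (Commute.refl x).pow_pow 4 14, hS, hc, ?_⟩
    rw [← pow_two, ← h14, pow_orderOf_eq_one]
    exact one_mem _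

/-- The negative of the identity. -/
theorem neg_one_mem_center :
    negS (1 : Matrix.symplecticGroup (Fin 3) F) ∈ Subgroup.center (Matrix.symplecticGroup (Fin 3) F) :=
  (Spectrum.center_iff (by norm_num) _).2 ⟨-1, by ring, by rw [neg_smul, one_smul]; rfl⟩

theorem le_card_expSet' {N k : ℕ} [NeZero N] (hq : (Fintype.card F).Coprime N)
    (ho : orderOf ((3 : ℕ) : ZMod N) = k) (hne : ∀ j < k, ((3 : ℕ) : ZMod N) ^ j ≠ -1) :
    2 * k ≤ (expSet (ZMod.unitOfCoprime _ hq)).card := by
  have hu : orderOf (ZMod.unitOfCoprime _ hq) = k := by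
    rw [← orderOf_units, ZMod.coe_unitOfCoprime, hF, ho]
  rw [← hu]
  refine two_mul_le_card_expSet _ fun j hj => hne (j % k) (Nat.mod_lt _ (hu ▸ orderOf_pos _)) ?_
  have h := congrArg Units.val hj
  rw [Units.val_pow_eq_pow_val, ZMod.coe_unitOfCoprime, hF, Units.val_neg, Units.val_one] at h
  rw [← ho, pow_mod_orderOf, h]

theorem no_twenty_six (g : Cfsg.PSp 3 F) : orderOf g ≠ 13 * 2 := by
  classical
  haveI : Fact (Nat.Prime 3) := ⟨Nat.prime_three⟩
  haveI := charThree hF
  haveI : CharP (AlgebraicClosure F) 3 :=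
    charP_of_injective_algebraMap (algebraMap F _).injective 3
  intro hg
  obtain ⟨x, rfl⟩ := QuotientGroup.mk'_surjective _ g
  set Z := Subgroup.center (Matrix.symplecticGroup (Fin 3) F)
  have hmem : ∀ k : ℕ, x ^ k ∈ Z ↔ 26 ∣ k := fun k => by
    rw [← QuotientGroup.eq_one_iff, QuotientGroup.mk_pow,
      show (26 : ℕ) = 13 * 2 from rfl, ← hg, orderOf_dvd_iff_pow_eq_one]
    rfl
  have h2 : x ^ 2 ∉ Z := fun h => absurd ((hmem 2).1 h) (by norm_num)
  have h13 : x ^ 13 ∉ Z := fun h => absurd ((hmem 13).1 h) (by norm_num)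
  obtain ⟨c, hc, hx⟩ := (Spectrum.center_iff (by norm_num) _).1 ((hmem 26).2 dvd_rfl)
  have heig : ∀ d, (bar x).charpoly.IsRoot d → d ^ 26 = algebraMap F (AlgebraicClosure F) c := by
    intro d hd
    obtain ⟨v, hv0, hv⟩ := Matrix.exists_mulVec_eq_zero_iff.2 ((det_zero_iff (bar x) d).2 hd)
    rw [Matrix.sub_mulVec, Matrix.smul_mulVec, Matrix.one_mulVec, sub_eq_zero] at hv
    have hk : ∀ i : ℕ, (bar x ^ i).mulVec v = d ^ i • v := fun i => by
      induction i with
      | zero => simp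
      | succ i ih => rw [pow_succ, ← Matrix.mulVec_mulVec, ← hv, Matrix.mulVec_smul, ih, smul_smul, ← pow_succ']
    have h1 := hk 26
    rw [← bar_pow, bar, hx, Matrix.map_smul' _ _ _ (map_mul _), Matrix.map_one _ (map_zero _) (map_one _),
      Matrix.smul_mulVec, Matrix.one_mulVec] at h1
    exact (smul_left_injective _ hv0 h1).symm
  rcases mul_self_eq_one_iff.1 hc with rfl | rfl
  · have hx26 : x ^ 26 = 1 := Subtype.ext (by rw [hx, one_smul]; rfl)
    have hroot : ∃ d, (bar x).charpoly.IsRoot d ∧ d ^ 26 = 1 ∧ d ^ 2 ≠ 1 := by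
      by_contra hcon
      push Not at hcon
      exact h2 ((pow_eq_one_of_roots 3 hx26 (by norm_num)
        fun d hd => hcon d hd (root_pow_eq_one hx26 hd)) ▸ one_mem _)
    obtain ⟨d, hd, hd26, hd2⟩ := hroot
    have hN : orderOf d = 13 ∨ orderOf d = 26 := by
      have h1 := orderOf_dvd_of_pow_eq_one hd26
      have h3 : ¬ orderOf d ∣ 2 := fun h => hd2 (orderOf_dvd_iff_pow_eq_one.1 h)
      have h4 := Nat.le_of_dvd (by norm_num) h1
      interval_cases hord : orderOf d <;> revert h1 h3 <;> decide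
    have hall : ∀ e, (bar x).charpoly.IsRoot e → orderOf e = orderOf d := by
      haveI : NeZero (orderOf d) := ⟨by rcases hN with h | h <;> rw [h] <;> norm_num⟩
      have hq : (Fintype.card F).Coprime (orderOf d) := by
        rcases hN with h | h <;> rw [h, hF] <;> norm_num
      obtain ⟨S, hS, hSo, hScard⟩ := exists_conjugates hd rfl hq
      have h6 : 6 ≤ S.card := by
        rw [hScard]
        refine le_card_expSet' hF hq (k := 3) ?_ ?_
        · rcases hN with h | h <;> rw [h, orderOf_eq_iff (by norm_num)] <;>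
            refine ⟨by decide, fun m hm hm0 => ?_⟩ <;> interval_cases m <;> decide
        · intro j hj
          rcases hN with h | h <;> rw [h] <;> interval_cases j <;> decide
      have := card_rootSet'_le x
      have e := Finset.eq_of_subset_of_card_le hS (by omega)
      exact fun e' he' => hSo e' (e ▸ mem_rootSet'.2 he')
    rcases hN with h | h
    · refine h13 ((pow_eq_one_of_roots 3 hx26 (by norm_num) fun e he => ?_) ▸ one_mem _)
      rw [← h, ← hall e he, pow_orderOf_eq_one]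
    · have hn26 : (negS x) ^ 26 = 1 := by
        refine Subtype.ext ?_
        rw [SubmonoidClass.coe_pow, show ((negS x : Matrix.symplecticGroup (Fin 3) F) : Matrix _ _ F) = -x.1 from rfl,
          Even.neg_pow (by decide), ← SubmonoidClass.coe_pow, hx26]
      have hn13 : (negS x) ^ 13 = 1 := by
        refine pow_eq_one_of_roots 3 hn26 (by norm_num) fun e he => ?_
        have hr : (bar x).charpoly.IsRoot (-e) := by
          rw [← det_zero_iff] at he ⊢
          rw [show bar (negS x) = -bar x from Matrix.ext fun i j => map_neg (algebraMap F (AlgebraicClosure F)) _] at he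
          rw [show (-e) • (1 : Matrix (Fin 3 ⊕ Fin 3) (Fin 3 ⊕ Fin 3) (AlgebraicClosure F)) - bar x
            = -(e • 1 - -bar x) by rw [neg_smul]; abel, Matrix.det_neg, he, mul_zero]
        have ho := (hall _ hr).trans h
        have hsq : ((-e) ^ 13) * ((-e) ^ 13) = 1 := by rw [← pow_add, show 13 + 13 = orderOf (-e) from ho.symm, pow_orderOf_eq_one]
        rcases mul_self_eq_one_iff.1 hsq with h' | h'
        · exfalso
          have := orderOf_dvd_of_pow_eq_one h'
          rw [ho] at this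
          norm_num at this
        · rw [Odd.neg_pow (by decide)] at h'
          exact neg_injective h'
      refine h13 ?_
      have : x ^ 13 = negS 1 := by
        refine Subtype.ext ?_
        have h' := congrArg Subtype.val hn13
        rw [SubmonoidClass.coe_pow, show ((negS x : Matrix.symplecticGroup (Fin 3) F) : Matrix _ _ F) = -x.1 from rfl,
          Odd.neg_pow (by decide)] at h'
        rw [SubmonoidClass.coe_pow]
        exact neg_eq_iff_eq_neg.1 h'
      exact this ▸ neg_one_mem_center hF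
  · have hx52 : x ^ 52 = 1 := by
      refine Subtype.ext ?_
      rw [show x ^ 52 = x ^ 26 * x ^ 26 by rw [← pow_add], Submonoid.coe_mul, hx]
      simp
    have hneg : (-1 : AlgebraicClosure F) ≠ 1 := Ring.neg_one_ne_one_of_char_ne_two
      (fun h => by
        haveI := h ▸ ringChar.charP (AlgebraicClosure F)
        exact absurd (CharP.eq (AlgebraicClosure F) ‹CharP (AlgebraicClosure F) 3› this) (by norm_num))
    have hroot : ∃ d, (bar x).charpoly.IsRoot d ∧ d ^ 4 ≠ 1 := by
      by_contra hcon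
      push Not at hcon
      have h4 := pow_eq_one_of_roots 3 hx52 (by norm_num) hcon
      refine h2 ?_
      have : x ^ 2 = x ^ 26 := by
        rw [show x ^ 26 = (x ^ 4) ^ 6 * x ^ 2 by rw [← pow_mul, ← pow_add], h4, one_pow, one_mul]
      rw [this]
      exact (hmem 26).2 dvd_rfl
    obtain ⟨d, hd, hd4⟩ := hroot
    have hd26 : d ^ 26 = -1 := by rw [heig d hd, map_neg, map_one]
    have hd52 : orderOf d = 52 := by
      have h1 : orderOf d ∣ 52 := orderOf_dvd_of_pow_eq_one (root_pow_eq_one hx52 hd)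
      have h3 : ¬ orderOf d ∣ 4 := fun h => hd4 (orderOf_dvd_iff_pow_eq_one.1 h)
      have h5 : ¬ orderOf d ∣ 26 := fun h =>
        hneg (hd26.symm.trans (orderOf_dvd_iff_pow_eq_one.1 h))
      have h4 := Nat.le_of_dvd (by norm_num) h1
      interval_cases hord : orderOf d <;> revert h1 h3 h5 <;> decide
    have hq : (Fintype.card F).Coprime 52 := by rw [hF]; norm_num
    obtain ⟨S, hS, -, hScard⟩ := exists_conjugates hd hd52 hq
    have h12 : 2 * 6 ≤ S.card := by
      rw [hScard]
      refine le_card_expSet' hF hq ?_ ?_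
      · rw [orderOf_eq_iff (by norm_num)]
        refine ⟨by decide, fun m hm hm0 => ?_⟩
        interval_cases m <;> decide
      · intro j hj
        interval_cases j <;> decide
    have := Finset.card_le_card hS
    have := card_rootSet'_le x
    omega

end Cfsg.Agent.SzGraph.PSpSix
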