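import Cfsg.Agent.SzGraph.Graph
import Cfsg.Agent.SzGraph.PSpSix
import Cfsg.Agent.PrimeGraph.PartialExtension

/-!
Arbitrarily large groups with the prime graph of PSp(6, 3).
-/

set_option autoImplicit false

namespace Cfsg.Agent.SzGraph

open Matrix Cfsg.Agent.Suzuki Cfsg.Agent.RankOne.Ovoid

universe u

theorem edge_iff {K : Type} [Field K] [Fintype K] (hK : Fintype.card K = 8)
    {F : Type u} [Field F] [Fintype F] (hF : Fintype.card F = 3) {p q : ℕ} (hp : p.Prime)
    (hq : q.Prime) (hpq : p ≠ q) :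
    (∃ g : Cfsg.PSp 3 F, orderOf g = p * q) ↔ ∃ g : E8 hK, orderOf g = p * q := by
  haveI := finite_E8 hK
  constructor
  · rintro ⟨g, hg⟩
    have hdp := (PSpSix.dvd_card_iff hF hp).1 ((dvd_mul_right p q).trans (hg ▸ orderOf_dvd_natCard g))
    have hdq := (PSpSix.dvd_card_iff hF hq).1 ((dvd_mul_left q p).trans (hg ▸ orderOf_dvd_natCard g))
    rcases hdp with rfl | rfl | rfl | rfl | rfl <;> rcases hdq with rfl | rfl | rfl | rfl | rfl
    all_goals first
      | exact absurd rfl hpq
      | exact edge_six hK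
      | exact edge_ten hK
      | exact edge_fourteen hK
      | exact edge_fifteen hK
      | (obtain ⟨x, hx⟩ := edge_six hK; refine ⟨x, hx.trans ?_⟩; norm_num; done)
      | (obtain ⟨x, hx⟩ := edge_ten hK; refine ⟨x, hx.trans ?_⟩; norm_num; done)
      | (obtain ⟨x, hx⟩ := edge_fourteen hK; refine ⟨x, hx.trans ?_⟩; norm_num; done)
      | (obtain ⟨x, hx⟩ := edge_fifteen hK; refine ⟨x, hx.trans ?_⟩; norm_num; done)
      | (refine absurd hg (PSpSix.no_pair hF ?_ g); norm_num; done)
      | (refine absurd hg (PSpSix.no_char hF ?_ g); norm_num; done)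
      | (refine absurd (hg.trans (mul_comm _ _)) (PSpSix.no_pair hF ?_ g); norm_num; done)
      | (refine absurd (hg.trans (mul_comm _ _)) (PSpSix.no_char hF ?_ g); norm_num; done)
      | (refine absurd (hg.trans ?_) (PSpSix.no_twenty_six hF g); norm_num; done)
  · rintro ⟨g, hg⟩
    have hdp := (dvd_card_iff hK hp).1 ((dvd_mul_right p q).trans (hg ▸ orderOf_dvd_natCard g))
    have hdq := (dvd_card_iff hK hq).1 ((dvd_mul_left q p).trans (hg ▸ orderOf_dvd_natCard g))
    rcases hdp with rfl | rfl | rfl | rfl | rfl <;> rcases hdq with rfl | rfl | rfl | rfl | rfl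
    all_goals first
      | exact absurd rfl hpq
      | exact PSpSix.edge_six hF
      | exact PSpSix.edge_fifteen hF
      | exact PSpSix.edge_ten hF
      | exact PSpSix.edge_fourteen hF
      | (obtain ⟨x, hx⟩ := PSpSix.edge_six hF; refine ⟨x, hx.trans ?_⟩; norm_num; done)
      | (obtain ⟨x, hx⟩ := PSpSix.edge_fifteen hF; refine ⟨x, hx.trans ?_⟩; norm_num; done)
      | (obtain ⟨x, hx⟩ := PSpSix.edge_ten hF; refine ⟨x, hx.trans ?_⟩; norm_num; done)
      | (obtain ⟨x, hx⟩ := PSpSix.edge_fourteen hF; refine ⟨x, hx.trans ?_⟩; norm_num; done)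
      | (refine absurd hg (no_edge hK ?_ hq hpq g); norm_num; done)
      | (refine absurd (hg.trans (mul_comm _ _)) (no_edge hK ?_ hp hpq.symm g); norm_num; done)

theorem fpf {K : Type} [Field K] [Fintype K] (hK : Fintype.card K = 8) (g : E8 hK)
    (hp : (orderOf g).Prime) (h2 : orderOf g ≠ 2) (hno : ¬ ∃ x : E8 hK, orderOf x = orderOf g * 2)
    (v : W8 (F := K)) (hv : act8 hK g.right v = v) : v = 1 := by
  haveI := finite_E8 hK
  have h13 : orderOf g = 13 := by
    rcases (dvd_card_iff hK hp).1 (orderOf_dvd_natCard g) with h | h | h | h | h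
    · exact absurd h h2
    · refine absurd ?_ hno
      obtain ⟨x, hx⟩ := edge_six hK
      exact ⟨x, by rw [hx, h]⟩
    · refine absurd ?_ hno
      obtain ⟨x, hx⟩ := edge_ten hK
      exact ⟨x, by rw [hx, h]⟩
    · refine absurd ?_ hno
      obtain ⟨x, hx⟩ := edge_fourteen hK
      exact ⟨x, by rw [hx, h]⟩
    · exact h
  have hr : orderOf g.right = 13 := orderOf_right hK (by norm_num) (by norm_num) h13
  have h1 : g.right.right = 1 :=
    right_eq_one_of_pow hK (n := 13) (by rw [← hr, pow_orderOf_eq_one]) (by norm_num)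
  have hl : orderOf g.right.left = 13 := (orderOf_left hK h1).trans hr
  refine Multiplicative.toAdd.injective ?_
  refine no_twisted_fixed hK hl (fr := (frobEquiv hK : K →+* K)) (frobEquiv_apply hK) ?_
  have h := congrArg Multiplicative.toAdd hv
  rw [← ofAdd_toAdd v, act8_apply, h1] at h
  simpa using h

theorem exists_large {F : Type u} [Field F] [Fintype F] (hF : Fintype.card F = 3) (N : ℕ) :
    ∃ (H : Type) (_ : Group H) (_ : Finite H), N < Nat.card H ∧
      ((∀ p : ℕ, p.Prime → (p ∣ Nat.card (Cfsg.PSp 3 F) ↔ p ∣ Nat.card H)) ∧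
      (∀ p q : ℕ, p.Prime → q.Prime → p ≠ q →
        ((∃ g : Cfsg.PSp 3 F, orderOf g = p * q) ↔ ∃ g : H, orderOf g = p * q))) := by
  haveI : Fact (Nat.Prime 2) := ⟨Nat.prime_two⟩
  letI := Fintype.ofFinite (GaloisField 2 3)
  have hK : Fintype.card (GaloisField 2 3) = 8 := by
    rw [← Nat.card_eq_fintype_card, GaloisField.card 2 3 (by norm_num)]; rfl
  haveI := finite_E8 hK
  haveI : Nontrivial (W8 (F := GaloisField 2 3)) :=
    (inferInstance : Nontrivial (Matrix (Fin 4) (Fin 4) (GaloisField 2 3)))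
  have hV : IsPGroup 2 (W8 (F := GaloisField 2 3)) := fun w => ⟨1, (pow_one 2).symm ▸ (pow_two w).trans (W8_sq hK w)⟩
  obtain ⟨H, _, _, hN, h1, h2⟩ := PrimeGraph.exists_large_of_partial (S := E8 hK) Nat.prime_two
    ((dvd_card_iff hK Nat.prime_two).2 (Or.inl rfl)) hV ((act8 hK).comp SemidirectProduct.rightHom)
    (fun g hp hne hno v hv => fpf hK g hp hne hno v hv) N
  refine ⟨H, inferInstance, Finite.of_fintype H, by rwa [Nat.card_eq_fintype_card], fun p hp => ?_,
    fun p q hp hq hpq => (edge_iff hK hF hp hq hpq).trans (h2 p q hp hq hpq)⟩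
  rw [PSpSix.dvd_card_iff hF hp, ← dvd_card_iff hK hp, h1 p hp]

end Cfsg.Agent.SzGraph
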