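import Cfsg.Agent.Suzuki.Tori3
import Cfsg.Agent.Suzuki.Aut

/-!
An element of order 13 of `Sz(8)` fixes no nonzero vector of `V ⊗ V⁽²⁾`, seen as 4 x 4 matrices.
-/

set_option autoImplicit false

namespace Cfsg.Agent.SzGraph

open Matrix Cfsg.Agent.PrimeGraph Cfsg.Agent.Suzuki Cfsg.Agent.RankOne.Ovoid Polynomial

/-- The number of fixed points of a permutation of order dividing 13. -/
theorem card_modEq {α : Type*} [Finite α] (σ : Equiv.Perm α) (hσ : σ ^ 13 = 1) (a : α)
    (ha : ∀ x, σ x = x ↔ x = a) : Nat.card α % 13 = 1 := by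
  classical
  haveI : Fintype α := Fintype.ofFinite α
  haveI : Fact (Nat.Prime 13) := ⟨by norm_num⟩
  have h := σ.card_compl_support_modEq (p := 13) (n := 1) (by rwa [pow_one])
  have e : σ.supportᶜ = {a} := Finset.ext fun x => by simp [ha]
  rw [e, Finset.card_singleton] at h
  rw [Nat.card_eq_fintype_card]
  exact h.symm

variable {F : Type} [Field F] [Fintype F]

theorem no_twisted_fixed (hF : Fintype.card F = 8) {g : Cfsg.Sz F 1} (hg : orderOf g = 13)
    {fr : F →+* F} (hfr : ∀ x, fr x = x ^ 2) {X : Matrix (Fin 4) (Fin 4) F}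
    (hX : mat g * X * ((mat g).map fr)ᵀ = X) : X = 0 := by
  classical
  haveI : Fact (Nat.Prime 2) := ⟨Nat.prime_two⟩
  haveI : CharP F 2 := charP_of_card_eq_prime_pow (p := 2) (f := 3) hF
  haveI : Finite F := Finite.of_fintype F
  have hF' : Fintype.card F = 2 ^ (2 * 1 + 1) := hF
  set M := mat g with hM
  have hM13 : M ^ 13 = 1 := by rw [hM, ← map_pow, ← hg, pow_orderOf_eq_one, map_one]
  have hg1 : g ≠ 1 := fun h => by rw [h, orderOf_one] at hg; norm_num at hg
  have hnf : ∀ v, M *ᵥ v = v → v = 0 := fun v hv => by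
    by_contra h
    exact no_fixed_vector (good_of_card hF') le_rfl hF' hg1 (by rw [hg]; decide) h hv
  have hnf' : ∀ Y : Matrix (Fin 4) (Fin 4) F, M * Y = Y → Y = 0 := fun Y hY => by
    refine Matrix.ext_of_mulVec_single fun i => ?_
    rw [Matrix.zero_mulVec]
    exact hnf _ (by rw [Matrix.mulVec_mulVec, hY])
  set M2 := M.map fr
  have hs : IsSymp M := symp le_rfl hF' g
  have hs2 : IsSymp M2 := by
    have h := congrArg (fun A : Matrix (Fin 4) (Fin 4) F => A.map fr) hs
    simp only [Matrix.map_mul, Matrix.transpose_map] at h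
    have hJ : (J4 F).map fr = J4 F := by
      ext i j; fin_cases i <;> fin_cases j <;> simp [J4]
    rwa [hJ] at h
  have hinv : M2ᵀ * (J4 F * M2 * J4 F) = 1 := by
    rw [← mul_assoc, ← mul_assoc, hs2, J4_mul_self]
  set Y := X * J4 F with hY
  have hMY : M * Y = Y * M2 := by
    calc M * Y = M * X * (M2ᵀ * (J4 F * M2 * J4 F)) * J4 F := by rw [hinv, mul_one, hY, mul_assoc]
      _ = (M * X * M2ᵀ) * J4 F * M2 * (J4 F * J4 F) := by simp only [mul_assoc]
      _ = Y * M2 := by rw [hX, J4_mul_self, mul_one, hY]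
  suffices Y = 0 by
    rw [show X = Y * J4 F by rw [hY, mul_assoc, J4_mul_self, mul_one], this, zero_mul]
  by_contra hY0
  -- the range of `Y` is everything
  have hdet : Y.det ≠ 0 := by
    intro hdet
    let U : Submodule F (Fin 4 → F) := LinearMap.range (Matrix.mulVecLin Y)
    have hU : ∀ v ∈ U, M *ᵥ v ∈ U := by
      rintro _ ⟨w, rfl⟩
      exact ⟨M2 *ᵥ w, by simp [Matrix.mulVec_mulVec, hMY]⟩
    let τ : U → U := fun v => ⟨M *ᵥ v.1, hU v.1 v.2⟩
    have hτ : ∀ n, ∀ v : U, (τ^[n] v).1 = (M ^ n) *ᵥ v.1 := fun n => by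
      induction n with
      | zero => intro v; simp
      | succ n ih =>
        intro v
        rw [Function.iterate_succ_apply', pow_succ', ← Matrix.mulVec_mulVec, ← ih]
    have h13 : ∀ v, τ^[13] v = v := fun v => Subtype.ext (by rw [hτ, hM13, Matrix.one_mulVec])
    let σ : Equiv.Perm U := ⟨τ, τ^[12],
      fun v => (Function.iterate_succ_apply τ 12 v).symm.trans (h13 v),
      fun v => (Function.iterate_succ_apply' τ 12 v).symm.trans (h13 v)⟩
    have hσ : σ ^ 13 = 1 := Equiv.ext fun v => by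
      rw [Equiv.Perm.coe_pow]; exact h13 v
    have hfix : ∀ v, σ v = v ↔ v = 0 := fun v => by
      constructor
      · intro h; exact Subtype.ext (hnf _ (congrArg Subtype.val h))
      · rintro rfl; exact Subtype.ext (Matrix.mulVec_zero M)
    have hc := card_modEq σ hσ 0 hfix
    rw [Module.natCard_eq_pow_finrank (K := F), Nat.card_eq_fintype_card, hF] at hc
    have hpos : 0 < Module.finrank F U := by
      refine Nat.lt_of_lt_of_le Nat.zero_lt_one (Submodule.one_le_finrank_iff.2 ?_)
      intro h0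
      apply hY0
      refine Matrix.ext_of_mulVec_single fun i => ?_
      have : Y *ᵥ Pi.single i 1 ∈ U := ⟨_, rfl⟩
      rw [h0, Submodule.mem_bot] at this
      rw [this, Matrix.zero_mulVec]
    have hlt : Module.finrank F U < 4 := by
      refine lt_of_lt_of_eq (Submodule.finrank_lt ?_) (Module.finrank_fin_fun F)
      intro htop
      obtain ⟨v, hv0, hv⟩ := Matrix.exists_mulVec_eq_zero_iff.2 hdet
      have hinj := LinearMap.injective_iff_surjective.2 (LinearMap.range_eq_top.1 htop)
      exact hv0 (hinj (by simpa using hv))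
    interval_cases Module.finrank F U <;> norm_num at hc
  have hYu : IsUnit Y := (Matrix.isUnit_iff_isUnit_det Y).2 (isUnit_iff_ne_zero.2 hdet)
  obtain ⟨u, hu⟩ := hYu
  have hconj : (u : Matrix (Fin 4) (Fin 4) F) * M2 * (↑u⁻¹ : Matrix (Fin 4) (Fin 4) F) = M := by
    rw [hu, ← hMY, ← hu, Units.mul_inv_cancel_right]
  have hcp : M.charpoly = M.charpoly.map fr := by
    refine (congrArg Matrix.charpoly hconj).symm.trans ?_
    rw [Matrix.coe_units_inv, Matrix.charpoly_units_conj]
    exact Matrix.charpoly_map M fr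
  have hc01 : ∀ i, M.charpoly.coeff i = 0 ∨ M.charpoly.coeff i = 1 := fun i => by
    have h := congrArg (fun P : F[X] => P.coeff i) hcp
    simp only [Polynomial.coeff_map, hfr] at h
    rcases eq_or_ne (M.charpoly.coeff i) 0 with h0 | h0
    · exact Or.inl h0
    · right
      exact mul_left_cancel₀ h0 (by rw [mul_one, ← pow_two]; exact h.symm)
  let ι : ZMod 2 →+* F := ZMod.castHom (dvd_refl 2) F
  have hlift : M.charpoly ∈ Polynomial.lifts ι := by
    rw [Polynomial.lifts_iff_coeff_lifts]
    intro i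
    rcases hc01 i with h | h
    · exact ⟨0, by rw [map_zero, h]⟩
    · exact ⟨1, by rw [map_one, h]⟩
  obtain ⟨P, hPmap, hPdeg, hPmon⟩ := Polynomial.lifts_and_natDegree_eq_and_monic hlift M.charpoly_monic
  let e : ZMod 2 →+* Matrix (Fin 4) (Fin 4) F := (Matrix.scalar (Fin 4)).comp ι
  letI : Algebra (ZMod 2) (Matrix (Fin 4) (Fin 4) F) := e.toAlgebra' fun c x =>
    (Matrix.scalar_commute (ι c) (fun r' => Commute.all _ r') x).eq
  have hev : ∀ Q : (ZMod 2)[X], aeval M Q = aeval M (Q.map ι) := by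
    intro Q
    induction Q using Polynomial.induction_on' with
    | add a b ha hb => rw [map_add, Polynomial.map_add, map_add, ha, hb]
    | monomial n c =>
      rw [Polynomial.map_monomial, aeval_monomial, aeval_monomial]
      rfl
  have hP0 : aeval M P = 0 := by rw [hev, hPmap, Matrix.aeval_self_charpoly]
  have hdeg : P.natDegree = 4 := by
    rw [hPdeg, Matrix.charpoly_natDegree_eq_dim, Fintype.card_fin]
  -- the algebra generated by `M` over the prime field
  let A : Subalgebra (ZMod 2) (Matrix (Fin 4) (Fin 4) F) := (aeval M).range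
  let f : (Fin 4 → ZMod 2) →+ A :=
    { toFun := fun c => ⟨aeval M (∑ i : Fin 4, Polynomial.C (c i) * Polynomial.X ^ (i : ℕ)), _, rfl⟩
      map_zero' := Subtype.ext (by simp)
      map_add' := fun c d => Subtype.ext (by
        simp only [Pi.add_apply, map_add, add_mul, Finset.sum_add_distrib]
        rfl) }
  have hf : Function.Surjective f := by
    rintro ⟨_, Q, rfl⟩
    refine ⟨fun i => (Q %ₘ P).coeff i, Subtype.ext ?_⟩
    show aeval M (∑ i : Fin 4, Polynomial.C ((Q %ₘ P).coeff i) * Polynomial.X ^ (i : ℕ)) = aeval M Q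
    have hlt : (Q %ₘ P).natDegree < 4 := by
      rw [← hdeg]
      exact Polynomial.natDegree_modByMonic_lt Q hPmon (by
        intro h; rw [h, Polynomial.natDegree_one] at hdeg; norm_num at hdeg)
    rw [Fin.sum_univ_eq_sum_range (fun i => Polynomial.C ((Q %ₘ P).coeff i) * Polynomial.X ^ i) 4,
      ← Polynomial.as_sum_range_C_mul_X_pow' (Q %ₘ P) hlt]
    conv_rhs => rw [← Polynomial.modByMonic_add_div Q P, map_add, map_mul, hP0, zero_mul, add_zero]
  haveI : Finite A := Finite.of_surjective f hf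
  have hA : Nat.card A ∣ 16 := by
    have h : Nat.card ((Fin 4 → ZMod 2) ⧸ f.ker) ∣ Nat.card (Fin 4 → ZMod 2) :=
      ⟨_, f.ker.card_eq_card_quotient_mul_card_addSubgroup⟩
    rw [Nat.card_congr (QuotientAddGroup.quotientKerEquivOfSurjective f hf).toEquiv, Nat.card_fun,
      Nat.card_zmod, Nat.card_fin] at h
    exact h
  have hMA : M ∈ A := ⟨Polynomial.X, aeval_X M⟩
  let τ : A → A := fun a => ⟨M, hMA⟩ * a
  have h13 : ∀ a, τ^[13] a = a := fun a => by
    rw [mul_left_iterate]
    show (⟨M, hMA⟩ : A) ^ 13 * a = a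
    rw [show (⟨M, hMA⟩ : A) ^ 13 = 1 from Subtype.ext hM13, one_mul]
  let σ : Equiv.Perm A := ⟨τ, τ^[12],
    fun v => (Function.iterate_succ_apply τ 12 v).symm.trans (h13 v),
    fun v => (Function.iterate_succ_apply' τ 12 v).symm.trans (h13 v)⟩
  have hσ : σ ^ 13 = 1 := Equiv.ext fun v => by
    rw [Equiv.Perm.coe_pow]; exact h13 v
  have hfix : ∀ a, σ a = a ↔ a = 0 := fun a => by
    constructor
    · intro h; exact Subtype.ext (hnf' _ (congrArg Subtype.val h))
    · rintro rfl; exact mul_zero _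
  have hc := card_modEq σ hσ 0 hfix
  have h2 : 2 ≤ Nat.card A := by
    haveI : Nontrivial A := ⟨⟨1, 0, fun h => one_ne_zero (congrArg Subtype.val h)⟩⟩
    exact Finite.one_lt_card
  have hmem : Nat.card A ∈ Nat.divisors 16 := Nat.mem_divisors.2 ⟨hA, by norm_num⟩
  rw [show Nat.divisors 16 = {1, 2, 4, 8, 16} by decide] at hmem
  simp only [Finset.mem_insert, Finset.mem_singleton] at hmem
  omega

end Cfsg.Agent.SzGraph
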