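import Cfsg.Agent.SzGraph.Group
import Cfsg.Agent.PrimeGraph.Extension

/-!
The prime graph of `(V ⊗ V⁽²⁾) : (Sz(8) : 3)`.
-/

set_option autoImplicit false

namespace Cfsg.Agent.SzGraph

open Matrix Cfsg.Agent.Suzuki Cfsg.Agent.RankOne.Ovoid

variable {F : Type} [Field F] [Fintype F] (hF : Fintype.card F = 8)

include hF

/-- Two commuting elements of coprime prime orders give an element of the product order. -/
theorem exists_mul {G : Type*} [Group G] {a b : G} {r s : ℕ} (hc : Commute a b) (ha : orderOf a = r)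
    (hb : orderOf b = s) (hco : r.Coprime s) : ∃ x : G, orderOf x = r * s :=
  ⟨a * b, by rw [hc.orderOf_mul_eq_mul_orderOf_of_coprime (by rwa [ha, hb]), ha, hb]⟩

theorem exists_sigma : ∃ σ : F ≃+* F, orderOf σ = 3 := by
  haveI : Finite (F ≃+* F) := Finite.of_injective (fun φ => (φ : F → F)) DFunLike.coe_injective
  haveI : Fact (Nat.Prime 3) := ⟨Nat.prime_three⟩
  exact exists_prime_orderOf_dvd_card' 3 (card_fieldAut hF).symm.dvd

/-- An element of order five over the prime field. -/
noncomputable def g5 : Cfsg.Sz F 1 := T (good_of_card (hF' hF)) 0 1 * J (good_of_card (hF' hF))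

theorem mat_g5 : mat (g5 hF) =
    (!![1, 1, 0, 1; 1, 0, 1, 0; 0, 1, 0, 0; 1, 0, 0, 0] : Matrix (Fin 4) (Fin 4) (ZMod 2)).map
      (haveI := charTwo hF; ZMod.castHom (dvd_refl 2) F) := by
  haveI := charTwo hF
  rw [g5, map_mul]
  show translMat 1 (0 : F) 1 * revMat F = _
  ext i j
  fin_cases i <;> fin_cases j <;>
    simp [translMat, revMat, vPt, Matrix.mul_apply, Fin.sum_univ_four]

theorem orderOf_g5 : orderOf (g5 hF) = 5 := by
  haveI := charTwo hF
  haveI : Fact (Nat.Prime 5) := ⟨Nat.prime_five⟩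
  let ι : ZMod 2 →+* F := ZMod.castHom (dvd_refl 2) F
  set M : Matrix (Fin 4) (Fin 4) (ZMod 2) := !![1, 1, 0, 1; 1, 0, 1, 0; 0, 1, 0, 0; 1, 0, 0, 0] with hM
  have h : mat (g5 hF) = ι.mapMatrix M := mat_g5 hF
  refine orderOf_eq_prime (mat_injective ?_) fun h1 => ?_
  · rw [map_pow, map_one, h, ← map_pow, show M ^ 5 = 1 by rw [hM]; decide, map_one]
  · rw [h1, map_one] at h
    have h' : (1 : Matrix (Fin 4) (Fin 4) (ZMod 2)) = M :=
      Matrix.map_injective ι.injective ((map_one ι.mapMatrix).trans h)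
    rw [hM] at h'
    revert h'
    decide

theorem fix_g5 (σ : F ≃+* F) : fieldAut le_rfl (hF' hF) σ (g5 hF) = g5 hF := by
  rw [g5, map_mul, fieldAut_T, map_zero, map_one]
  congr 1
  exact Subtype.ext (mapSL_J (good_of_card (hF' hF)) σ)

theorem fix_J (σ : F ≃+* F) :
    fieldAut le_rfl (hF' hF) σ (J (good_of_card (hF' hF))) = J (good_of_card (hF' hF)) :=
  Subtype.ext (mapSL_J (good_of_card (hF' hF)) σ)

theorem comm_sigma {g : Cfsg.Sz F 1} {σ : F ≃+* F} (h : fieldAut le_rfl (hF' hF) σ g = g) :
    Commute (SemidirectProduct.inl g : Q8 hF) (SemidirectProduct.inr σ) := by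
  refine SemidirectProduct.ext ?_ ?_ <;> simp [h]

theorem orderOf_J : orderOf (J (good_of_card (hF' hF)) : Cfsg.Sz F 1) = 2 := by
  haveI : Fact (Nat.Prime 2) := ⟨Nat.prime_two⟩
  refine orderOf_eq_prime (by rw [pow_two, J_mul_J]) fun h => ?_
  have h1 := congrArg mat h
  rw [map_one] at h1
  have h2 := congrFun (congrFun h1 0) 0
  change revMat F 0 0 = (1 : Matrix (Fin 4) (Fin 4) F) 0 0 at h2
  simp [revMat] at h2

theorem edge_six : ∃ x : E8 hF, orderOf x = 2 * 3 := by
  obtain ⟨σ, hσ⟩ := exists_sigma hF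
  obtain ⟨x, hx⟩ := exists_mul hF (comm_sigma hF (fix_J hF σ))
    ((orderOf_injective _ SemidirectProduct.inl_injective _).trans (orderOf_J hF))
    ((orderOf_injective _ SemidirectProduct.inr_injective _).trans hσ) (by norm_num)
  exact ⟨SemidirectProduct.inr x, (orderOf_injective _ SemidirectProduct.inr_injective _).trans hx⟩

theorem edge_fifteen : ∃ x : E8 hF, orderOf x = 3 * 5 := by
  obtain ⟨σ, hσ⟩ := exists_sigma hF
  obtain ⟨x, hx⟩ := exists_mul hF (comm_sigma hF (fix_g5 hF σ)).symm
    ((orderOf_injective _ SemidirectProduct.inr_injective _).trans hσ)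
    ((orderOf_injective _ SemidirectProduct.inl_injective _).trans (orderOf_g5 hF)) (by norm_num)
  exact ⟨SemidirectProduct.inr x, (orderOf_injective _ SemidirectProduct.inr_injective _).trans hx⟩

/-- An element of the extension from a fixed nonzero vector. -/
theorem edge_two {g : Cfsg.Sz F 1} {r : ℕ} (hg : orderOf g = r) (hr : Odd r)
    {X : Matrix (Fin 4) (Fin 4) F} (hX0 : X ≠ 0)
    (hX : mat g * X * ((mat g).map (frobEquiv hF : F →+* F))ᵀ = X) :
    ∃ x : E8 hF, orderOf x = 2 * r := by
  haveI : Fact (Nat.Prime 2) := ⟨Nat.prime_two⟩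
  have hfix : act8 hF (SemidirectProduct.inl g) (Multiplicative.ofAdd X) = Multiplicative.ofAdd X := by
    rw [act8_apply, SemidirectProduct.left_inl, SemidirectProduct.right_inl]
    congr 1
  have hc : Commute (SemidirectProduct.inl (Multiplicative.ofAdd X) : E8 hF)
      (SemidirectProduct.inr (SemidirectProduct.inl g)) := by
    refine SemidirectProduct.ext ?_ ?_
    · simp only [SemidirectProduct.mul_left, SemidirectProduct.left_inl, SemidirectProduct.right_inl,
        SemidirectProduct.left_inr, SemidirectProduct.right_inr, map_one, MulAut.one_apply, mul_one,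
        one_mul]
      exact hfix.symm
    · simp
  refine exists_mul hF hc ?_ ?_ (Nat.coprime_two_left.2 hr)
  · rw [orderOf_injective _ SemidirectProduct.inl_injective]
    refine orderOf_eq_prime ((pow_two _).trans (W8_sq hF _)) fun h => hX0 ?_
    exact congrArg Multiplicative.toAdd h
  · rw [orderOf_injective _ SemidirectProduct.inr_injective,
      orderOf_injective _ SemidirectProduct.inl_injective, hg]

theorem edge_ten : ∃ x : E8 hF, orderOf x = 2 * 5 := by
  refine edge_two hF (orderOf_g5 hF) (by decide) (X := PrimeGraph.J4 F) (fun h => ?_) ?_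
  · have := congrFun (congrFun h 0) 3
    simp [PrimeGraph.J4] at this
  · haveI := charTwo hF
    have hs : PrimeGraph.IsSymp (mat (g5 hF)) := symp le_rfl (hF' hF) (g5 hF)
    have he : (mat (g5 hF)).map (frobEquiv hF : F →+* F) = mat (g5 hF) := by
      rw [mat_g5, Matrix.map_map]
      ext i j
      simp only [Matrix.map_apply, Function.comp]
      exact RingHom.congr_fun (RingHom.ext_zmod ((frobEquiv hF : F →+* F).comp
        (ZMod.castHom (dvd_refl 2) F)) (ZMod.castHom (dvd_refl 2) F)) _
    rw [he]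
    -- `g J gᵀ = J` follows from `gᵀ J g = J`
    have h1 : mat (g5 hF) * (PrimeGraph.J4 F * (mat (g5 hF))ᵀ * PrimeGraph.J4 F) = 1 := by
      refine mul_eq_one_comm.1 ?_
      calc PrimeGraph.J4 F * (mat (g5 hF))ᵀ * PrimeGraph.J4 F * mat (g5 hF)
          = PrimeGraph.J4 F * ((mat (g5 hF))ᵀ * PrimeGraph.J4 F * mat (g5 hF)) := by
            simp only [mul_assoc]
        _ = 1 := by rw [hs, PrimeGraph.J4_mul_self]
    calc mat (g5 hF) * PrimeGraph.J4 F * (mat (g5 hF))ᵀ
        = mat (g5 hF) * (PrimeGraph.J4 F * (mat (g5 hF))ᵀ * PrimeGraph.J4 F) * PrimeGraph.J4 F := by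
          simp only [mul_assoc, PrimeGraph.J4_mul_self, mul_one]
      _ = PrimeGraph.J4 F := by rw [h1, one_mul]

theorem edge_fourteen : ∃ x : E8 hF, orderOf x = 2 * 7 := by
  classical
  haveI : Fact (Nat.Prime 7) := ⟨by norm_num⟩
  obtain ⟨c, hc⟩ := exists_prime_orderOf_dvd_card' (G := Fˣ) 7
    (by rw [Nat.card_units, Nat.card_eq_fintype_card, hF])
  refine edge_two hF (g := H (good_of_card (hF' hF)) c)
    ((orderOf_injective _ (H_injective _) c).trans hc) (by decide)
    (X := Matrix.single 0 1 (1 : F)) ?_ ?_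
  · intro h
    have := congrFun (congrFun h 0) 1
    simp at this
  · have hc0 : (c : F) ≠ 0 := c.ne_zero
    have h7 : (c : F) ^ 7 = 1 := by
      rw [← Units.val_pow_eq_pow_val, ← hc, pow_orderOf_eq_one, Units.val_one]
    show torMat 1 (c : F) * _ * ((torMat 1 (c : F)).map _)ᵀ = _
    rw [torMat, Matrix.diagonal_map (map_zero _), Matrix.diagonal_transpose]
    ext i j
    rw [Matrix.mul_diagonal, Matrix.diagonal_mul]
    by_cases hij : i = 0 ∧ j = 1
    · obtain ⟨rfl, rfl⟩ := hij
      simp [torVec, frobEquiv_apply]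
      field_simp
      linear_combination h7
    · rw [Matrix.single_apply, if_neg fun h => hij ⟨h.1.symm, h.2.symm⟩, mul_zero, zero_mul]

/-- The forbidden pairs. -/
theorem no_edge {r s : ℕ} (hr : r = 13 ∨ r = 7 ∧ s ≠ 2) (hs : s.Prime) (hrs : r ≠ s)
    (x : E8 hF) : orderOf x ≠ r * s := by
  intro hx
  haveI := finite_of hF
  haveI : Finite (F ≃+* F) := Finite.of_injective (fun φ => (φ : F → F)) DFunLike.coe_injective
  have hr' : r = 7 ∨ r = 13 := by rcases hr with h | ⟨h, -⟩ <;> simp [h]
  have hrp : r.Prime := by rcases hr' with rfl | rfl <;> norm_num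
  have hr2 : r ≠ 2 := by rcases hr' with rfl | rfl <;> norm_num
  haveI := Fact.mk hrp
  have hy : orderOf (x ^ s) = r := by
    rw [orderOf_pow_of_dvd hs.ne_zero (hx ▸ dvd_mul_left s r), hx, Nat.mul_div_cancel _ hs.pos]
  have hz : orderOf (x ^ r) = s := by
    rw [orderOf_pow_of_dvd hrp.ne_zero (hx ▸ dvd_mul_right r s), hx,
      Nat.mul_div_cancel_left _ hrp.pos]
  have hco : Commute (x ^ s) (x ^ r) := (Commute.refl x).pow_pow s r
  set y := x ^ s
  set z := x ^ r
  have hay := orderOf_right hF hrp hr2 hy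
  have hcr : Commute y.right z.right := hco.map SemidirectProduct.rightHom
  have hr3 : r.Coprime 3 := by rcases hr' with rfl | rfl <;> norm_num
  have hy1 : y.right.right = 1 :=
    right_eq_one_of_pow hF (by rw [← hay, pow_orderOf_eq_one]) hr3
  set g := y.right.left with hg
  have hgo : orderOf g = r := (orderOf_left hF hy1).trans hay
  have hyg : y.right = SemidirectProduct.inl g := SemidirectProduct.ext rfl hy1
  have hs1 : z.right ^ s = 1 := by
    have := congrArg (SemidirectProduct.rightHom (φ := act8 hF)) (pow_orderOf_eq_one z)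
    rwa [map_pow, map_one, hz] at this
  by_cases hs3 : s = 3
  · -- a field automorphism would fix a conjugate
    subst hs3
    haveI : Fact (Nat.Prime 3) := ⟨hs⟩
    have hzo : orderOf z.right = 3 := orderOf_right hF hs (by norm_num) hz
    obtain ⟨σ, hσ⟩ := exists_sigma hF
    have h3 : ∀ P : Sylow 3 (Q8 hF), Nat.card P = 3 := fun P => by
      rw [Sylow.card_eq_multiplicity, card_Q8 hF, show (87360 : ℕ) = 3 ^ 1 * 29120 by norm_num,
        Nat.factorization_mul (by norm_num) (by norm_num), Finsupp.add_apply,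
        Nat.Prime.factorization_pow Nat.prime_three, Finsupp.single_eq_same,
        Nat.factorization_eq_zero_of_not_dvd (by norm_num : ¬ 3 ∣ 29120), add_zero, pow_one]
    obtain ⟨P, hP⟩ := (IsPGroup.of_card (n := 1) (by rw [Nat.card_zpowers, hzo, pow_one]) :
      IsPGroup 3 (Subgroup.zpowers z.right)).exists_le_sylow
    obtain ⟨P', hP'⟩ := (IsPGroup.of_card (n := 1) (by
      rw [Nat.card_zpowers, orderOf_injective _ SemidirectProduct.inr_injective, hσ, pow_one]) :
      IsPGroup 3 (Subgroup.zpowers (SemidirectProduct.inr σ : Q8 hF))).exists_le_sylow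
    have hPe : (P' : Subgroup (Q8 hF)) = Subgroup.zpowers (SemidirectProduct.inr σ : Q8 hF) :=
      (Subgroup.eq_of_le_of_card_ge hP' (by
        rw [Nat.card_zpowers, orderOf_injective _ SemidirectProduct.inr_injective, hσ]
        exact (h3 P').le)).symm
    obtain ⟨k, hk⟩ := MulAction.exists_smul_eq (Q8 hF) P P'
    have hkz : k * z.right * k⁻¹ ∈ Subgroup.zpowers (SemidirectProduct.inr σ : Q8 hF) := by
      rw [← hPe, ← hk, Sylow.coe_subgroup_smul]
      exact ⟨z.right, hP (Subgroup.mem_zpowers _), rfl⟩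
    obtain ⟨n, hn⟩ := hkz
    simp only at hn
    rw [← map_zpow] at hn
    have hc2 : Commute (k * y.right * k⁻¹) (k * z.right * k⁻¹) :=
      hcr.map (MulAut.conj k).toMonoidHom
    have hk1 : (k * y.right * k⁻¹).right = 1 := by
      simp [hy1]
    set g' := (k * y.right * k⁻¹).left with hg'
    have hgo' : orderOf g' = r := by
      rw [orderOf_left hF hk1, ← hay]
      exact orderOf_injective (MulAut.conj k).toMonoidHom (MulAut.conj k).injective y.right
    have hyg' : k * y.right * k⁻¹ = SemidirectProduct.inl g' := SemidirectProduct.ext rfl hk1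
    rw [hyg', ← hn] at hc2
    have hσn : σ ^ n ≠ 1 := fun h => by
      rw [h, map_one] at hn
      have h1 : z.right = 1 := by
        have := congrArg (fun u => k⁻¹ * u * k) hn.symm
        simpa [mul_assoc] using this
      rw [h1, orderOf_one] at hzo
      norm_num at hzo
    refine not_fixed hF hr' hgo' hσn ?_
    have := congrArg SemidirectProduct.left hc2.eq
    simpa [-map_zpow] using this.symm
  · have hz1 : z.right.right = 1 :=
      right_eq_one_of_pow hF hs1 ((Nat.coprime_primes hs Nat.prime_three).2 hs3)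
    have hmem : z.right.left ∈ Subgroup.centralizer ({g} : Set (Cfsg.Sz F 1)) := by
      rw [Subgroup.mem_centralizer_singleton_iff]
      have hzg : z.right = SemidirectProduct.inl z.right.left := SemidirectProduct.ext rfl hz1
      have h := hcr.eq
      rw [hyg, hzg, ← map_mul, ← map_mul] at h
      exact (SemidirectProduct.inl_injective h).symm
    have hd := orderOf_dvd_natCard (⟨_, hmem⟩ : Subgroup.centralizer ({g} : Set (Cfsg.Sz F 1)))
    rw [Subgroup.orderOf_mk, card_centralizer_odd hF hrp hr2 hgo, orderOf_left hF hz1] at hd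
    by_cases hs2 : s = 2
    · subst hs2
      have hr13 : r = 13 := by
        rcases hr with h | ⟨-, h⟩
        · exact h
        · exact absurd rfl h
      have hd2 := Nat.dvd_gcd hd (orderOf_dvd_of_pow_eq_one hs1)
      rw [show Nat.gcd r 2 = 1 by rw [hr13]; rfl, Nat.dvd_one, orderOf_eq_one_iff] at hd2
      have hzl : z = SemidirectProduct.inl z.left := SemidirectProduct.ext rfl hd2
      have h := congrArg SemidirectProduct.left hco.eq
      rw [SemidirectProduct.mul_left, SemidirectProduct.mul_left, hd2, map_one, MulAut.one_apply,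
        mul_comm z.left y.left, mul_left_cancel_iff, hyg] at h
      have hX : Multiplicative.toAdd z.left = 0 := by
        refine no_twisted_fixed hF (hr13 ▸ hgo) (fr := (frobEquiv hF : F →+* F))
          (frobEquiv_apply hF) ?_
        have h' := congrArg Multiplicative.toAdd h
        rw [← ofAdd_toAdd z.left, act8_apply, SemidirectProduct.left_inl,
          SemidirectProduct.right_inl] at h'
        simpa using h'
      have hz' : z = 1 := by
        rw [hzl, show z.left = 1 from Multiplicative.toAdd.injective hX, map_one]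
      rw [hz', orderOf_one] at hz
      norm_num at hz
    · rw [orderOf_right hF hs hs2 hz] at hd
      exact hrs ((Nat.prime_dvd_prime_iff_eq hs hrp).1 hd).symm

theorem dvd_card_iff {p : ℕ} (hp : p.Prime) :
    p ∣ Nat.card (E8 hF) ↔ p = 2 ∨ p = 3 ∨ p = 5 ∨ p = 7 ∨ p = 13 := by
  rw [card_E8 hF, show 8 ^ 16 * 87360 = 2 ^ 54 * 3 * 5 * 7 * 13 by norm_num]
  rw [hp.dvd_mul, hp.dvd_mul, hp.dvd_mul, hp.dvd_mul,
    Nat.prime_dvd_prime_iff_eq hp Nat.prime_three, Nat.prime_dvd_prime_iff_eq hp Nat.prime_five,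
    Nat.prime_dvd_prime_iff_eq hp (by norm_num : Nat.Prime 7),
    Nat.prime_dvd_prime_iff_eq hp (by norm_num : Nat.Prime 13)]
  constructor
  · rintro ((((h | h) | h) | h) | h)
    · exact Or.inl ((Nat.prime_dvd_prime_iff_eq hp Nat.prime_two).1 (hp.dvd_of_dvd_pow h))
    all_goals simp [h]
  · rintro (rfl | rfl | rfl | rfl | rfl) <;> simp

end Cfsg.Agent.SzGraph
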