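import Cfsg.Agent.SzGraph.Fpf

/-!
The group `(V ⊗ V⁽²⁾) : (Sz(8) : 3)`: its primes are 2, 3, 5, 7, 13 and two of them are joined exactly
for 2-3, 2-5, 2-7 and 3-5.
-/

set_option autoImplicit false

namespace Cfsg.Agent.SzGraph

open Matrix Cfsg.Agent.Suzuki Cfsg.Agent.RankOne.Ovoid

variable {F : Type} [Field F] [Fintype F] (hF : Fintype.card F = 8)

include hF

theorem hF' : Fintype.card F = 2 ^ (2 * 1 + 1) := hF

theorem charTwo : CharP F 2 :=
  haveI : Fact (Nat.Prime 2) := ⟨Nat.prime_two⟩
  charP_of_card_eq_prime_pow (p := 2) (f := 3) hF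

theorem card_Sz8 : Nat.card (Cfsg.Sz F 1) = 29120 := by
  rw [card_eq le_rfl (hF' hF), Nat.card_eq_fintype_card, hF]
  norm_num

/-- The centraliser of an element of odd prime order has that order. -/
theorem card_centralizer_odd {g : Cfsg.Sz F 1} {r : ℕ} (hr : r.Prime) (hr2 : r ≠ 2)
    (hg : orderOf g = r) : Nat.card (Subgroup.centralizer {g}) = r := by
  have hr1 : r ≠ 1 := hr.one_lt.ne'
  have hmem : r ∣ Nat.card (Subgroup.centralizer {g}) := by
    rw [← hg, ← Subgroup.orderOf_mk g (Subgroup.mem_centralizer_singleton_iff.mpr rfl)]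
    exact orderOf_dvd_natCard _
  have hprime : ∀ n : ℕ, n.Prime → Nat.card (Subgroup.centralizer {g}) = n →
      Nat.card (Subgroup.centralizer {g}) = r := fun n hn h => by
    rw [h] at hmem ⊢
    exact ((Nat.prime_dvd_prime_iff_eq hr hn).1 hmem).symm
  rcases elt_cases le_rfl (hF' hF) g with h | ⟨k, hk⟩ | ⟨k, c, hc, hk⟩
  · rcases torus_card_cases le_rfl (hF' hF) h with e | e
    · exact hprime 5 (by norm_num) (e.trans (by norm_num))
    · exact hprime 13 (by norm_num) (e.trans (by norm_num))
  · have := Suzuki.orderOf_dvd_four (hF' hF) hk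
    rw [hg] at this
    exact absurd ((Nat.prime_dvd_prime_iff_eq hr Nat.prime_two).1
      (hr.dvd_of_dvd_pow (show r ∣ 2 ^ 2 from this))) hr2
  · refine hprime 7 (by norm_num) ?_
    rw [(centralizer_of_conj_H le_rfl (hF' hF) hc hk).2, Nat.card_eq_fintype_card, hF]

/-- An element of order seven is conjugate to a torus element. -/
theorem exists_conj_H {g : Cfsg.Sz F 1} (hg : orderOf g = 7) :
    ∃ k, ∃ c : Fˣ, c ≠ 1 ∧ k * g * k⁻¹ = H (good_of_card (hF' hF)) c := by
  rcases elt_cases le_rfl (hF' hF) g with h | ⟨k, hk⟩ | h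
  · have h7 := card_centralizer_odd hF (by norm_num) (by norm_num) hg
    rcases torus_card_cases le_rfl (hF' hF) h with e | e <;> rw [h7] at e <;> norm_num at e
  · have := Suzuki.orderOf_dvd_four (hF' hF) hk
    rw [hg] at this
    norm_num at this
  · exact h

theorem card_fieldAut : Nat.card (F ≃+* F) = 3 := by
  haveI := charTwo hF
  haveI : Fact (Nat.Prime 2) := ⟨Nat.prime_two⟩
  letI := ZMod.algebra F 2
  haveI : Finite F := Finite.of_fintype F
  let e : (F ≃+* F) ≃ (F ≃ₐ[ZMod 2] F) :=
    { toFun := fun φ => AlgEquiv.ofRingEquiv (f := φ) fun x =>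
        RingHom.congr_fun (RingHom.ext_zmod ((φ : F →+* F).comp (algebraMap (ZMod 2) F))
          (algebraMap (ZMod 2) F)) x
      invFun := fun φ => φ.toRingEquiv
      left_inv := fun φ => RingEquiv.ext fun x => rfl
      right_inv := fun φ => AlgEquiv.ext fun x => rfl }
  rw [Nat.card_congr e, IsGalois.card_aut_eq_finrank]
  have h := Module.natCard_eq_pow_finrank (K := ZMod 2) (V := F)
  rw [Nat.card_eq_fintype_card, hF, Nat.card_zmod] at h
  exact (Nat.pow_right_injective le_rfl (show 2 ^ 3 = 2 ^ Module.finrank (ZMod 2) F from h)).symm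

/-- The Frobenius. -/
noncomputable def frobEquiv : F ≃+* F :=
  haveI := charTwo hF
  haveI : Fact (Nat.Prime 2) := ⟨Nat.prime_two⟩
  haveI : Finite F := Finite.of_fintype F
  haveI : PerfectRing F 2 := inferInstance
  frobeniusEquiv F 2

theorem frobEquiv_apply (x : F) : frobEquiv hF x = x ^ 2 := by
  haveI := charTwo hF
  haveI : Fact (Nat.Prime 2) := ⟨Nat.prime_two⟩
  haveI : Finite F := Finite.of_fintype F
  rfl

theorem fixed_by_aut {σ : F ≃+* F} (hσ : σ ≠ 1) {x : F} (hx : σ x = x) : x = 0 ∨ x = 1 := by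
  haveI : Finite (F ≃+* F) := Finite.of_injective (fun φ => (φ : F → F)) DFunLike.coe_injective
  haveI : Fact (Nat.Prime 3) := ⟨Nat.prime_three⟩
  have hz : Subgroup.zpowers σ = ⊤ := zpowers_eq_top_of_prime_card (card_fieldAut hF) hσ
  have hmem : frobEquiv hF ∈ Subgroup.zpowers σ := hz ▸ Subgroup.mem_top _
  rw [← mem_powers_iff_mem_zpowers] at hmem
  obtain ⟨n, hn⟩ := hmem
  have hpow : ∀ n : ℕ, (σ ^ n) x = x := fun n => by
    induction n with
    | zero => rfl
    | succ n ih => rw [pow_succ, RingAut.mul_apply, hx, ih]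
  have := hpow n
  simp only at hn
  rw [hn, frobEquiv_apply, pow_two] at this
  rcases eq_or_ne x 0 with h | h
  · exact Or.inl h
  · exact Or.inr (mul_left_cancel₀ h (this.trans (mul_one x).symm))

/-- `Sz(8)` extended by its field automorphisms. -/
abbrev Q8 : Type := Cfsg.Sz F 1 ⋊[fieldAut le_rfl (hF' hF)] (F ≃+* F)

omit hF in
theorem finite_of (hF : Fintype.card F = 8) : Finite (Q8 hF) :=
  haveI : Finite (F ≃+* F) := Finite.of_injective (fun φ => (φ : F → F)) DFunLike.coe_injective
  Finite.of_equiv _ SemidirectProduct.equivProd.symm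

theorem card_Q8 : Nat.card (Q8 hF) = 87360 := by
  rw [SemidirectProduct.card, card_Sz8 hF, card_fieldAut hF]

theorem mat_fieldAut (σ : F ≃+* F) (g : Cfsg.Sz F 1) :
    mat (fieldAut le_rfl (hF' hF) σ g) = (mat g).map σ := rfl

omit hF in
/-- The action of a pair on the tensor module. -/
noncomputable def actFun (fr : F →+* F) (g : Cfsg.Sz F 1) (σ : F ≃+* F) :
    Matrix (Fin 4) (Fin 4) F →+ Matrix (Fin 4) (Fin 4) F where
  toFun X := mat g * X.map σ * ((mat g).map fr)ᵀ
  map_zero' := by simp
  map_add' X Y := by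
    rw [Matrix.map_add _ (map_add σ), Matrix.mul_add, Matrix.add_mul]

/-- The tensor module. -/
abbrev W8 : Type := Multiplicative (Matrix (Fin 4) (Fin 4) F)

theorem actFun_mul (a b : Q8 hF) (X : Matrix (Fin 4) (Fin 4) F) :
    actFun (frobEquiv hF : F →+* F) (a * b).left (a * b).right X =
      actFun (frobEquiv hF : F →+* F) a.left a.right
        (actFun (frobEquiv hF : F →+* F) b.left b.right X) := by
  simp only [actFun, AddMonoidHom.coe_mk, ZeroHom.coe_mk, SemidirectProduct.mul_left,
    SemidirectProduct.mul_right, map_mul, mat_fieldAut, Matrix.map_mul, Matrix.transpose_mul]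
  have hf : mat ((fieldAut le_rfl (hF' hF) a.right) b.left) = (mat b.left).map a.right := rfl
  rw [hf]
  have hc : ((mat b.left).map a.right).map (frobEquiv hF : F →+* F) =
      ((mat b.left).map (frobEquiv hF : F →+* F)).map a.right := by
    ext i j
    simp [Matrix.map_apply, frobEquiv_apply]
  rw [hc, Matrix.transpose_map, Matrix.map_map]
  simp only [mul_assoc]
  rfl

/-- The action on the tensor module. -/
noncomputable def act8 : Q8 hF →* MulAut (W8 (F := F)) :=
  let f : Q8 hF → (Matrix (Fin 4) (Fin 4) F →+ Matrix (Fin 4) (Fin 4) F) :=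
    fun a => actFun (frobEquiv hF : F →+* F) a.left a.right
  have f1 : ∀ X, f 1 X = X := fun X => by
    simp [f, actFun, Matrix.transpose_one, Matrix.map_one]
  MonoidHom.mk'
    (fun a => AddEquiv.toMultiplicative
      { toFun := f a
        invFun := f a⁻¹
        left_inv := fun X => by
          show f a⁻¹ (f a X) = X
          rw [← actFun_mul hF a⁻¹ a X, inv_mul_cancel]
          exact f1 X
        right_inv := fun X => by
          show f a (f a⁻¹ X) = X
          rw [← actFun_mul hF a a⁻¹ X, mul_inv_cancel]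
          exact f1 X
        map_add' := (f a).map_add })
    (fun a b => MulEquiv.ext fun X => congrArg Multiplicative.ofAdd
      (actFun_mul hF a b (Multiplicative.toAdd X)))

theorem act8_apply (a : Q8 hF) (X : Matrix (Fin 4) (Fin 4) F) :
    act8 hF a (Multiplicative.ofAdd X) = Multiplicative.ofAdd
      (mat a.left * X.map a.right * ((mat a.left).map (frobEquiv hF : F →+* F))ᵀ) := rfl

/-- The extension. -/
abbrev E8 : Type := W8 (F := F) ⋊[act8 hF] Q8 hF

theorem finite_E8 : Finite (E8 hF) :=
  haveI := finite_of hF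
  Finite.of_equiv _ SemidirectProduct.equivProd.symm

theorem card_E8 : Nat.card (E8 hF) = 8 ^ 16 * 87360 := by
  rw [SemidirectProduct.card, card_Q8 hF, Nat.card_congr Multiplicative.toAdd]
  congr 1
  show Nat.card (Fin 4 → Fin 4 → F) = _
  rw [Nat.card_fun, Nat.card_fun, Nat.card_eq_fintype_card (α := F), hF, Nat.card_fin]
  norm_num

/-- The kernel is a two-group. -/
theorem W8_sq (w : W8 (F := F)) : w * w = 1 := by
  haveI := charTwo hF
  refine Multiplicative.toAdd.injective ?_
  show Multiplicative.toAdd w + Multiplicative.toAdd w = 0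
  ext i j
  exact CharTwo.add_self_eq_zero _

/-- A prime order element of the extension of odd order has the same order in the quotient. -/
theorem orderOf_right {x : E8 hF} {r : ℕ} (hr : r.Prime) (hr2 : r ≠ 2) (hx : orderOf x = r) :
    orderOf x.right = r := by
  haveI := Fact.mk hr
  refine orderOf_eq_prime ?_ fun h => ?_
  · have := congrArg (SemidirectProduct.rightHom (φ := act8 hF)) (pow_orderOf_eq_one x)
    rwa [map_pow, map_one, hx] at this
  · have hl : x = SemidirectProduct.inl x.left := SemidirectProduct.ext rfl h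
    have h2 : x ^ 2 = 1 := by rw [hl, ← map_pow, pow_two, W8_sq hF, map_one]
    have := orderOf_dvd_of_pow_eq_one h2
    rw [hx] at this
    exact hr2 ((Nat.prime_dvd_prime_iff_eq hr Nat.prime_two).1 this)

theorem right_eq_one_of_pow {a : Q8 hF} {n : ℕ} (h : a ^ n = 1) (hn : n.Coprime 3) : a.right = 1 := by
  have h1 : a.right ^ n = 1 := by
    have := congrArg SemidirectProduct.rightHom h
    rwa [map_pow, map_one] at this
  have h2 := Nat.dvd_gcd (orderOf_dvd_of_pow_eq_one h1)
    ((orderOf_dvd_natCard a.right).trans (card_fieldAut hF).dvd)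
  rw [hn.gcd_eq_one, Nat.dvd_one] at h2
  exact orderOf_eq_one_iff.1 h2

theorem orderOf_left {a : Q8 hF} (h : a.right = 1) : orderOf a.left = orderOf a := by
  conv_rhs => rw [show a = SemidirectProduct.inl a.left from SemidirectProduct.ext rfl h]
  rw [orderOf_injective _ SemidirectProduct.inl_injective]

/-- No element of order seven or thirteen has all entries in the prime field. -/
theorem not_fixed {g : Cfsg.Sz F 1} {r : ℕ} (hr : r = 7 ∨ r = 13) (hg : orderOf g = r)
    {σ : F ≃+* F} (hσ : σ ≠ 1) (hfix : fieldAut le_rfl (hF' hF) σ g = g) : False := by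
  classical
  haveI := charTwo hF
  have hent : ∀ i j, mat g i j = 0 ∨ mat g i j = 1 := fun i j => by
    refine fixed_by_aut hF hσ ?_
    conv_rhs => rw [← hfix]
    rfl
  let ι : ZMod 2 →+* F := ZMod.castHom (dvd_refl 2) F
  rcases hr with rfl | rfl
  · obtain ⟨k, c, hc, hk⟩ := exists_conj_H hF hg
    have htr : (mat g).trace = (torMat 1 (c : F)).trace := by
      have h := congrArg (fun x => (mat x).trace) hk
      simp only [map_mul] at h
      rw [Matrix.trace_mul_cycle, ← map_mul, inv_mul_cancel, map_one, one_mul] at h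
      exact h
    have hsq : (mat g).trace ^ 2 = (mat g).trace := by
      rw [Matrix.trace, sum_pow_char]
      refine Finset.sum_congr rfl fun i _ => ?_
      rcases hent i i with h | h <;> simp [h]
    rw [htr] at hsq
    have hc0 : (c : F) ≠ 0 := c.ne_zero
    have h7 : (c : F) ^ 7 = 1 := by
      have := pow_card_eq_one' (x := c)
      rw [Nat.card_units, Nat.card_eq_fintype_card, hF] at this
      have h' := congrArg Units.val this
      rwa [Units.val_pow_eq_pow_val, Units.val_one] at h' 
    have e : (torMat 1 (c : F)).trace =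
        (c : F) + (c : F) ^ 3 + (c : F) ^ 4 + (c : F) ^ 6 := by
      have e6 : (c : F)⁻¹ = (c : F) ^ 6 := inv_eq_of_mul_eq_one_right (by rw [← pow_succ']; exact h7)
      have e3 : (c : F) ^ (2 ^ (1 + 1)) / (c : F) = (c : F) ^ 3 := by
        rw [div_eq_iff hc0]; ring
      have e4 : (c : F) / (c : F) ^ (2 ^ (1 + 1)) = (c : F) ^ 4 := by
        rw [div_eq_iff (pow_ne_zero _ hc0)]
        linear_combination -(c : F) * h7
      rw [torMat, Matrix.trace_diagonal, Fin.sum_univ_four]
      simp only [torVec, Matrix.cons_val_zero, Matrix.cons_val_one, Matrix.cons_val]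
      rw [e3, e4, e6]
    rw [e] at hsq
    have h2 : (2 : F) = 0 := CharTwo.two_eq_zero
    set x := (c : F)
    have hkey : x ^ 2 * (x + 1) ^ 3 = 0 := by
      linear_combination hsq - (x ^ 5 + x) * h7 + (-x ^ 4 * 1 + x ^ 2 * (x + x ^ 2) + x ^ 2 + x ^ 3 + x ^ 4 +
        x ^ 5 + x ^ 2 * x ^ 2 + x + x ^ 6 + x ^ 7 + x ^ 8 + x ^ 9 + x ^ 10 + x ^ 12 - x - x ^ 2 - x ^ 4 - 2 * x ^ 5 - x ^ 6 - 3 * x ^ 7 - x ^ 8 - 2 * x ^ 9 - 2 * x ^ 10 - x ^ 12) * h2
    rcases mul_eq_zero.1 hkey with h | h
    · exact hc0 (pow_eq_zero_iff two_ne_zero |>.1 h)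
    · apply hc
      refine Units.ext ?_
      show x = 1
      rw [← sub_eq_zero, CharTwo.sub_eq_add]
      exact pow_eq_zero_iff three_ne_zero |>.1 h
  · let M0 : Matrix (Fin 4) (Fin 4) (ZMod 2) := Matrix.of fun i j => if mat g i j = 0 then 0 else 1
    have hM : ι.mapMatrix M0 = mat g := by
      ext i j
      rcases hent i j with h | h <;> simp [M0, h]
    have hord : orderOf M0 = 13 := by
      rw [← orderOf_injective ι.mapMatrix.toMonoidHom (Matrix.map_injective ι.injective)]
      show orderOf (ι.mapMatrix M0) = 13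
      rw [hM]
      exact (orderOf_injective mat mat_injective g).trans hg
    have hu : IsUnit M0 := IsUnit.of_pow_eq_one (hord ▸ pow_orderOf_eq_one M0) (by norm_num)
    obtain ⟨u, hu⟩ := hu
    have h13 : orderOf u = 13 := by rw [← orderOf_units, hu, hord]
    have := orderOf_dvd_natCard u
    rw [h13, Matrix.card_GL_field, Fin.prod_univ_four, ZMod.card] at this
    norm_num at this

end Cfsg.Agent.SzGraph
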